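import Groth.Prelude.Def_FinFr
import Groth.Agent.WeilLib.FrobPow
import Groth.Agent.GeomRedPull.Basic
import Groth.Agent.GeomRedPull.Field
import Groth.Agent.DeltaBC.Tensor
import Groth.Agent.QuotScheme.Basic
import Mathlib

/-!
# The scheme of fixed points of Frobenius
-/

set_option autoImplicit false
set_option linter.style.haveILetI false
set_option backward.isDefEq.respectTransparency false

universe u

open CategoryTheory CategoryTheory.Limits AlgebraicGeometry FrobSch

noncomputable section

namespace Groth.Agent.ZetaFix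

/-- A separable field extension is geometrically reduced. -/
theorem geometricallyReduced_spec (k : Type u) [Field k] (S : Type u) [Field S] [Algebra k S]
    [Algebra.IsSeparable k S] : GeometricallyReduced (Spec.map (CommRingCat.ofHom (algebraMap k S))) := by
  refine GeomRedPull.geometricallyReduced_Spec fun K _ _ => ?_
  haveI := DeltaBC.isReduced_tensor_sep k S K
  exact isReduced_of_injective (Algebra.TensorProduct.comm k S K) (Algebra.TensorProduct.comm k S K).injective

variable {k : Type u} [Field k] [Finite k] {X : Scheme.{u}} (f : X ⟶ Spec (CommRingCat.of k)) (FX : X ⟶ X)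

/-- The `q`-Frobenius is a morphism over the finite field. -/
theorem comp_structure (hFb : FX.base = 𝟙 _) (hle : ∀ U : X.Opens, U ≤ FX ⁻¹ᵁ U)
    (hFapp : ∀ (U : X.Opens) (s : Γ(X, U)), (FX.appLE U U (hle U)).hom s = s ^ Nat.card k) :
    FX ≫ f = f ∧ ∀ {Z : Scheme.{u}} (ι : Z ⟶ X) [Mono ι], ι ≫ FX = ι →
      ∀ (V : Z.Opens) (s : Γ(Z, V)), s ^ Nat.card k = s := by
  haveI := Fintype.ofFinite k
  obtain ⟨p, hp⟩ := CharP.exists k
  obtain ⟨e, hpr, hcard⟩ := FiniteField.card k p
  haveI := Fact.mk hpr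
  haveI : IsCharP (Spec (CommRingCat.of k)) p := inferInstance
  haveI : IsCharP X p := IsCharP.of_hom f p
  have hq : Nat.card k = p ^ (e : ℕ) := by rw [Nat.card_eq_fintype_card, hcard]
  have hFX : FX = WeilLib.frobPow p X e := WeilLib.eq_frobPow p e FX hFb hle fun U s ↦ by rw [hFapp, hq]
  have h0 : WeilLib.frobPow p (Spec (CommRingCat.of k)) e = 𝟙 _ := by
    rw [WeilLib.frobPow_Spec, show CommRingCat.ofHom (iterateFrobenius k p e) = 𝟙 _ from ?_, Spec.map_id]
    ext r
    show iterateFrobenius k p e r = r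
    rw [iterateFrobenius_def, ← hcard, FiniteField.pow_card]
  refine ⟨by rw [hFX, WeilLib.frobPow_comp, h0, Category.comp_id], fun {Z} ι _ hι V s => ?_⟩
  haveI : IsCharP Z p := IsCharP.of_hom ι p
  have hZ : WeilLib.frobPow p Z e = 𝟙 Z := by
    rw [← cancel_mono ι, WeilLib.frobPow_comp, ← hFX, hι, Category.id_comp]
  have h := WeilLib.frobPow_app p e V V (WeilLib.frobPow_preimage p e V).ge le_rfl s
  rw [QuotScheme.appLE_congr_hom hZ V V _ (le_refl _)] at h
  simp only [Scheme.Hom.appLE, Scheme.Hom.id_app] at h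
  simp only [Subsingleton.elim (homOfLE (le_refl V)) (𝟙 V), op_id, CategoryTheory.Functor.map_id] at h
  rw [hq]
  exact h.symm.trans (congr($(Z.presheaf.map_id (Opposite.op V)) s))

/-- The fixed locus of `FX` on `X`. -/
def fixBase (hF : FX ≫ f = f) : Scheme.{u} :=
  pullback (pullback.lift (𝟙 X) FX (by rw [hF, Category.id_comp]) : X ⟶ pullback f f)
    (pullback.lift (𝟙 X) (𝟙 X) rfl : X ⟶ pullback f f)

def fixι (hF : FX ≫ f = f) : fixBase f FX hF ⟶ X := pullback.fst _ _

instance (hF : FX ≫ f = f) : Mono (fixι f FX hF) := by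
  haveI : IsSplitMono (pullback.lift (𝟙 X) (𝟙 X) rfl : X ⟶ pullback f f) :=
    ⟨⟨pullback.fst f f, pullback.lift_fst _ _ _⟩⟩
  exact inferInstanceAs (Mono (pullback.fst _ _))

theorem fixι_comp (hF : FX ≫ f = f) : fixι f FX hF ≫ FX = fixι f FX hF := by
  have h := pullback.condition (f := (pullback.lift (𝟙 X) FX (by rw [hF, Category.id_comp]) : X ⟶ pullback f f))
    (g := (pullback.lift (𝟙 X) (𝟙 X) rfl : X ⟶ pullback f f))
  have h1 := h =≫ pullback.fst f f
  have h2 := h =≫ pullback.snd f f
  simp only [Category.assoc, pullback.lift_fst, pullback.lift_snd, Category.comp_id] at h1 h2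
  exact h2.trans h1.symm

theorem exists_lift_fix (hF : FX ≫ f = f) {T : Scheme.{u}} (x : T ⟶ X) (hx : x ≫ FX = x) :
    ∃ z : T ⟶ fixBase f FX hF, z ≫ fixι f FX hF = x :=
  ⟨pullback.lift x x (by
    apply pullback.hom_ext <;> simp [hx]), pullback.lift_fst _ _ _⟩

variable (hFb : FX.base = 𝟙 _) (hle : ∀ U : X.Opens, U ≤ FX ⁻¹ᵁ U)
  (hFapp : ∀ (U : X.Opens) (s : Γ(X, U)), (FX.appLE U U (hle U)).hom s = s ^ Nat.card k)

include hFb hFapp in
/-- Main statement. -/
theorem main [LocallyOfFiniteType f] (F : FinFr.ext (AlgebraicClosure k) f ⟶ FinFr.ext (AlgebraicClosure k) f)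
    (hF1 : F ≫ FinFr.extπ (AlgebraicClosure k) f = FinFr.extπ (AlgebraicClosure k) f ≫ FX)
    (hF2 : F ≫ FinFr.extStr (AlgebraicClosure k) f = FinFr.extStr (AlgebraicClosure k) f) :
    IsReduced (FinFr.fixScheme (FinFr.extStr (AlgebraicClosure k) f) F hF2) ∧
      (QuasiCompact f → Finite ↥(FinFr.fixScheme (FinFr.extStr (AlgebraicClosure k) f) F hF2)) := by
  obtain ⟨hF, hpow⟩ := comp_structure f FX hFb hle hFapp
  let Z := fixBase f FX hF
  let ι := fixι f FX hF
  let z : Z ⟶ Spec (CommRingCat.of k) := ι ≫ f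
  have hs : ∀ (V : Z.Opens) (s : Γ(Z, V)), s ^ Nat.card k = s := hpow ι (fixι_comp f FX hF)
  haveI : IsReduced Z := ⟨fun V => ⟨fun s hs' => by
    obtain ⟨N, hN⟩ := hs'
    have hit : ∀ j, s ^ (Nat.card k ^ j) = s := fun j => by
      induction j with
      | zero => simp
      | succ j ih => rw [pow_succ, pow_mul, ih, hs]
    rw [← hit N]
    exact pow_eq_zero_of_le (Nat.lt_pow_self Finite.one_lt_card).le hN⟩⟩
  haveI : LocallyOfFiniteType ι := by
    show LocallyOfFiniteType (pullback.fst _ _)
    haveI : LocallyOfFiniteType ((pullback.lift (𝟙 X) (𝟙 X) rfl : X ⟶ pullback f f) ≫ pullback.fst f f) := by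
      rw [pullback.lift_fst]; infer_instance
    haveI : LocallyOfFiniteType (pullback.lift (𝟙 X) (𝟙 X) rfl : X ⟶ pullback f f) :=
      locallyOfFiniteType_of_comp _ (pullback.fst f f)
    infer_instance
  haveI : LocallyQuasiFinite z := by
    rw [HasRingHomProperty.iff_appLE (P := @LocallyQuasiFinite)]
    rintro ⟨U, hU⟩ ⟨V, hV⟩ e
    refine RingHom.QuasiFinite.of_finite ((RingHom.finite_iff_isIntegral_and_finiteType).2
      ⟨fun s => ⟨Polynomial.X ^ Nat.card k - Polynomial.X,
        Polynomial.monic_X_pow_sub (Polynomial.degree_X_le.trans_lt (by exact_mod_cast Finite.one_lt_card)), ?_⟩,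
        Scheme.Hom.finiteType_appLE z hU hV e⟩)
    simp only [Polynomial.eval₂_sub, Polynomial.eval₂_pow, Polynomial.eval₂_X]
    rw [hs, sub_self]
  let K := AlgebraicClosure k
  let a : Spec (CommRingCat.of K) ⟶ Spec (CommRingCat.of k) := FinFr.specι k K
  haveI : GeometricallyReduced a := geometricallyReduced_spec k K
  haveI : IsReduced (pullback z a) := by
    haveI := GeomRedPull.isReduced_pullback a z
    exact isReduced_of_isOpenImmersion (pullbackSymmetry z a).hom
  let P := FinFr.fixScheme (FinFr.extStr K f) F hF2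
  let i : P ⟶ FinFr.ext K f := pullback.fst _ _
  have hi : i ≫ F = i := by
    have h := pullback.condition (f := (pullback.lift (𝟙 _) F (by rw [hF2, Category.id_comp]) :
        FinFr.ext K f ⟶ pullback (FinFr.extStr K f) (FinFr.extStr K f)))
      (g := (pullback.lift (𝟙 _) (𝟙 _) rfl : FinFr.ext K f ⟶ pullback (FinFr.extStr K f) (FinFr.extStr K f)))
    have h1 := h =≫ pullback.fst _ _
    have h2 := h =≫ pullback.snd _ _
    simp only [Category.assoc, pullback.lift_fst, pullback.lift_snd, Category.comp_id] at h1 h2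
    exact h2.trans h1.symm
  haveI : Mono i := by
    haveI : IsSplitMono (pullback.lift (𝟙 _) (𝟙 _) rfl :
        FinFr.ext K f ⟶ pullback (FinFr.extStr K f) (FinFr.extStr K f)) := ⟨⟨pullback.fst _ _, pullback.lift_fst _ _ _⟩⟩
    exact inferInstanceAs (Mono (pullback.fst _ _))
  obtain ⟨b, hb⟩ := exists_lift_fix f FX hF (i ≫ FinFr.extπ K f) (by rw [Category.assoc, ← hF1, reassoc_of% hi])
  let toP : P ⟶ pullback z a := pullback.lift b (i ≫ FinFr.extStr K f) (by
    show b ≫ ι ≫ f = _
    rw [reassoc_of% hb, Category.assoc]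
    exact congrArg (i ≫ ·) pullback.condition)
  let x : pullback z a ⟶ FinFr.ext K f := pullback.lift (pullback.fst z a ≫ ι) (pullback.snd z a) (by
    rw [Category.assoc]; exact pullback.condition)
  have hx1 : x ≫ FinFr.extπ K f = pullback.fst z a ≫ ι := pullback.lift_fst _ _ _
  have hx2 : x ≫ FinFr.extStr K f = pullback.snd z a := pullback.lift_snd _ _ _
  have hxF : x ≫ F = x := by
    apply pullback.hom_ext
    · show (x ≫ F) ≫ FinFr.extπ K f = x ≫ FinFr.extπ K f
      rw [Category.assoc, hF1, reassoc_of% hx1, hx1]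
      show pullback.fst z a ≫ fixι f FX hF ≫ FX = _
      rw [fixι_comp]
    · show (x ≫ F) ≫ FinFr.extStr K f = x ≫ FinFr.extStr K f
      rw [Category.assoc, hF2]
  let from' : pullback z a ⟶ P := pullback.lift x x (by
    apply pullback.hom_ext <;> simp [hxF])
  have hfrom : from' ≫ i = x := pullback.lift_fst _ _ _
  have e1 : toP ≫ from' = 𝟙 P := by
    rw [← cancel_mono i, Category.assoc, hfrom, Category.id_comp]
    apply pullback.hom_ext
    · show (toP ≫ x) ≫ FinFr.extπ K f = i ≫ FinFr.extπ K f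
      rw [Category.assoc, hx1, pullback.lift_fst_assoc]
      exact hb
    · show (toP ≫ x) ≫ FinFr.extStr K f = i ≫ FinFr.extStr K f
      rw [Category.assoc, hx2, pullback.lift_snd]
  have e2 : from' ≫ toP = 𝟙 _ := by
    apply pullback.hom_ext
    · haveI : Mono (fixι f FX hF) := inferInstance
      rw [← cancel_mono ι, Category.assoc, Category.assoc, pullback.lift_fst_assoc, Category.id_comp]
      show from' ≫ b ≫ fixι f FX hF = _
      rw [hb, reassoc_of% hfrom, hx1]
    · rw [Category.assoc, pullback.lift_snd, reassoc_of% hfrom, hx2, Category.id_comp]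
  haveI : IsIso toP := ⟨⟨from', e1, e2⟩⟩
  refine ⟨isReduced_of_isOpenImmersion toP, fun hqc => ?_⟩
  haveI := LocallyOfFiniteType.isLocallyNoetherian f
  haveI : QuasiSeparated f := inferInstance
  haveI : QuasiCompact ι := by
    show QuasiCompact (pullback.fst _ _)
    haveI : QuasiCompact ((pullback.lift (𝟙 X) (𝟙 X) rfl : X ⟶ pullback f f)) :=
      inferInstanceAs (QuasiCompact (pullback.diagonal f))
    infer_instance
  haveI : QuasiCompact z := inferInstanceAs (QuasiCompact (ι ≫ f))
  haveI : Finite ↥(pullback z a) := by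
    have h := Scheme.Hom.finite_preimage_singleton (pullback.snd z a) (IsLocalRing.closedPoint K)
    refine Set.finite_univ_iff.1 (h.subset fun w _ => ?_)
    exact Subsingleton.elim (α := ↥(Spec (CommRingCat.of K))) _ _
  exact Finite.of_injective _ (Scheme.Hom.isOpenEmbedding toP).injective

end Groth.Agent.ZetaFix
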