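import Groth.Agent.ZetaFix.Orbit
import Mathlib.FieldTheory.Finite.GaloisField

/-!
# Frobenius stable closed subsets descend
-/

set_option autoImplicit false
set_option linter.style.haveILetI false
set_option backward.isDefEq.respectTransparency false

universe u

open CategoryTheory CategoryTheory.Limits AlgebraicGeometry FrobSch

noncomputable section

namespace Groth.Agent.ZetaFix

variable {k : Type u} [Field k] [Finite k] {X : Scheme.{u}} (f : X ⟶ Spec (CommRingCat.of k)) [LocallyOfFiniteType f]
variable (K : Type u) [Field K] [Algebra k K] [IsAlgClosed K] [Algebra.IsAlgebraic k K]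


variable (FX : X ⟶ X) (hFb : FX.base = 𝟙 _) (hle : ∀ U : X.Opens, U ≤ FX ⁻¹ᵁ U)
  (hFapp : ∀ (U : X.Opens) (s : Γ(X, U)), (FX.appLE U U (hle U)).hom s = s ^ Nat.card k)
  (F : pullback f (Spec.map (CommRingCat.ofHom (algebraMap k K))) ⟶ pullback f (Spec.map (CommRingCat.ofHom (algebraMap k K))))

omit [Finite k] [IsAlgClosed K] [Algebra.IsAlgebraic k K] [LocallyOfFiniteType f] in
/-- A section over a point is given by an embedding of its residue field. -/
theorem exists_embedding (z : X) (c : Spec (CommRingCat.of K) ⟶ pullback f (Spec.map (CommRingCat.ofHom (algebraMap k K)))) (hc : c ≫ pullback.snd f (Spec.map (CommRingCat.ofHom (algebraMap k K))) = 𝟙 _)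
    (hcz : pullback.fst f (Spec.map (CommRingCat.ofHom (algebraMap k K))) (c (IsLocalRing.closedPoint K)) = z) :
    ∃ φ : X.residueField z →+* K, φ.comp (WeilLib.kStr f z) = algebraMap k K ∧
      c ≫ pullback.fst f (Spec.map (CommRingCat.ofHom (algebraMap k K))) = Spec.map (CommRingCat.ofHom φ) ≫ X.fromSpecResidueField z := by
  obtain ⟨⟨z', φ⟩, hφ⟩ := (Scheme.SpecToEquivOfField K X).symm.surjective (c ≫ pullback.fst f (Spec.map (CommRingCat.ofHom (algebraMap k K))))
  have hz' : z' = z := by
    rw [← hcz, ← Scheme.Hom.comp_apply, ← hφ]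
    exact (Scheme.fromSpecResidueField_apply _ _).symm
  subst hz'
  refine ⟨φ.hom, congrArg CommRingCat.Hom.hom (Spec.map_injective (?_ :
    Spec.map (CommRingCat.ofHom (WeilLib.kStr f _) ≫ φ) = (Spec.map (CommRingCat.ofHom (algebraMap k K))))), hφ.symm⟩
  rw [Spec.map_comp, ← WeilLib.fromSpecResidueField_comp, ← Category.assoc]
  change ((Scheme.SpecToEquivOfField K X).symm ⟨_, φ⟩) ≫ f = _
  rw [hφ, Category.assoc, pullback.condition, reassoc_of% hc]

omit [IsAlgClosed K] [Algebra.IsAlgebraic k K] in
/-- Two embeddings of a finite field differ by a power of Frobenius. -/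
theorem exists_pow_eq (L : Type u) [Field L] [Algebra k L] [Finite L] (φa φb : L →ₐ[k] K) :
    ∃ n : ℕ, ∀ c, φb c = φa c ^ (Nat.card k ^ n) := by
  haveI := Fintype.ofFinite k
  letI : Algebra L K := φa.toRingHom.toAlgebra
  haveI : IsScalarTower k L K := IsScalarTower.of_algebraMap_eq fun r => (φa.commutes r).symm
  haveI : IsGalois k L := inferInstance
  obtain ⟨n, hn⟩ := (FiniteField.bijective_frobeniusAlgEquivOfAlgebraic_pow k L).2 (φb.restrictNormal' L)
  refine ⟨n, fun c => ?_⟩
  have h1 : φa (φb.restrictNormal' L c) = φb c := φb.restrictNormal_commutes L c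
  have h2 : φb.restrictNormal' L c = c ^ (Fintype.card k ^ (n : ℕ)) := by
    rw [← hn, AlgEquiv.coe_pow]
    exact congrFun (FiniteField.coe_frobeniusAlgEquivOfAlgebraic_iterate k L n) c
  rw [← h1, h2, map_pow, Nat.card_eq_fintype_card]

variable {f K} in
omit [Finite k] [IsAlgClosed K] [Algebra.IsAlgebraic k K] [LocallyOfFiniteType f] in
theorem frob_pow_fst (p e : ℕ) [Fact p.Prime] [ExpChar K p] [IsCharP X p] [IsCharP (Spec (CommRingCat.of K)) p]
    (hFX : FX = WeilLib.frobPow p X e) (hF1 : F ≫ pullback.fst f (Spec.map (CommRingCat.ofHom (algebraMap k K))) = pullback.fst f (Spec.map (CommRingCat.ofHom (algebraMap k K))) ≫ FX)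
    (a : Spec (CommRingCat.of K) ⟶ pullback f (Spec.map (CommRingCat.ofHom (algebraMap k K)))) {L : CommRingCat.{u}} (g : Spec L ⟶ X) (φ : L →+* K)
    (hφ : a ≫ pullback.fst f (Spec.map (CommRingCat.ofHom (algebraMap k K))) = Spec.map (CommRingCat.ofHom φ) ≫ g) :
    (a ≫ F) ≫ pullback.fst f (Spec.map (CommRingCat.ofHom (algebraMap k K))) = Spec.map (CommRingCat.ofHom ((iterateFrobenius K p e).comp φ)) ≫ g := by
  rw [Category.assoc, hF1, ← Category.assoc, hFX, ← WeilLib.frobPow_comp, hφ, WeilLib.frobPow_Spec, ← Category.assoc,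
    ← Spec.map_comp]
  rfl

include hFb hFapp in
/-- Two closed points over one point are related by a power of the Frobenius. -/
theorem exists_frob_pow (hF1 : F ≫ pullback.fst f (Spec.map (CommRingCat.ofHom (algebraMap k K))) = pullback.fst f (Spec.map (CommRingCat.ofHom (algebraMap k K))) ≫ FX)
    (hF2 : F ≫ pullback.snd f (Spec.map (CommRingCat.ofHom (algebraMap k K))) = pullback.snd f (Spec.map (CommRingCat.ofHom (algebraMap k K)))) (x y : ↥(pullback f (Spec.map (CommRingCat.ofHom (algebraMap k K)))))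
    (hx : IsClosed ({x} : Set ↥(pullback f (Spec.map (CommRingCat.ofHom (algebraMap k K)))))) (hy : IsClosed ({y} : Set ↥(pullback f (Spec.map (CommRingCat.ofHom (algebraMap k K))))))
    (h : pullback.fst f (Spec.map (CommRingCat.ofHom (algebraMap k K))) x = pullback.fst f (Spec.map (CommRingCat.ofHom (algebraMap k K))) y) (W : Set ↥(pullback f (Spec.map (CommRingCat.ofHom (algebraMap k K))))) (hFW : F.base '' W ⊆ W) (hxW : x ∈ W) :
    y ∈ W := by
  obtain ⟨p, hp⟩ := CharP.exists k
  haveI := Fintype.ofFinite k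
  obtain ⟨e, hpr, hcard⟩ := FiniteField.card k p
  haveI := Fact.mk hpr
  haveI : CharP K p := charP_of_injective_algebraMap (algebraMap k K).injective p
  haveI : ExpChar K p := ExpChar.prime hpr
  haveI : IsCharP (Spec (CommRingCat.of k)) p := inferInstance
  haveI : IsCharP (Spec (CommRingCat.of K)) p := inferInstance
  haveI : IsCharP X p := IsCharP.of_hom f p
  have hq : Nat.card k = p ^ (e : ℕ) := by rw [Nat.card_eq_fintype_card, hcard]
  have hFX : FX = WeilLib.frobPow p X e := WeilLib.eq_frobPow p e FX hFb hle fun U s ↦ by rw [hFapp, hq]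
  obtain ⟨a, ha, hax⟩ := exists_section f K x hx
  obtain ⟨b, hb, hby⟩ := exists_section f K y hy
  haveI := isIntegralHom_fst f K
  have hz : IsClosed ({pullback.fst f (Spec.map (CommRingCat.ofHom (algebraMap k K))) x} : Set X) := by
    have := (pullback.fst f (Spec.map (CommRingCat.ofHom (algebraMap k K)))).isClosedMap _ hx
    rwa [Set.image_singleton] at this
  obtain ⟨φa, hφa0, hφa⟩ := exists_embedding f K (pullback.fst f (Spec.map (CommRingCat.ofHom (algebraMap k K))) x) a ha (by rw [hax])
  obtain ⟨φb, hφb0, hφb⟩ := exists_embedding f K (pullback.fst f (Spec.map (CommRingCat.ofHom (algebraMap k K))) x) b hb (by rw [hby, ← h])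
  letI := (WeilLib.kStr f (pullback.fst f (Spec.map (CommRingCat.ofHom (algebraMap k K))) x)).toAlgebra
  haveI : Module.Finite k (X.residueField (pullback.fst f (Spec.map (CommRingCat.ofHom (algebraMap k K))) x)) :=
    (WeilLib.finite_residueField_iff f _).2 hz
  haveI : Finite (X.residueField (pullback.fst f (Spec.map (CommRingCat.ofHom (algebraMap k K))) x)) := Module.finite_of_finite k
  obtain ⟨n, hn⟩ := exists_pow_eq K _ ({ φa with commutes' := RingHom.congr_fun hφa0 } : _ →ₐ[k] K)
    { φb with commutes' := RingHom.congr_fun hφb0 }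
  have key : ∀ j : ℕ, ∃ c : Spec (CommRingCat.of K) ⟶ pullback f (Spec.map (CommRingCat.ofHom (algebraMap k K))), c ≫ pullback.snd f (Spec.map (CommRingCat.ofHom (algebraMap k K))) = 𝟙 _ ∧
      c (IsLocalRing.closedPoint K) ∈ W ∧ c ≫ pullback.fst f (Spec.map (CommRingCat.ofHom (algebraMap k K))) =
        Spec.map (CommRingCat.ofHom ((iterateFrobenius K p (e * j)).comp φa)) ≫ X.fromSpecResidueField _ := by
    intro j
    induction j with
    | zero =>
      refine ⟨a, ha, by rw [hax]; exact hxW, hφa.trans ?_⟩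
      congr 2
      ext c
      simp [iterateFrobenius_def]
    | succ j ih =>
      obtain ⟨c, hc1, hc2, hc3⟩ := ih
      refine ⟨c ≫ F, by rw [Category.assoc, hF2, hc1], ?_, (frob_pow_fst FX F p e hFX hF1 c _ _ hc3).trans ?_⟩
      · exact hFW ⟨_, hc2, rfl⟩
      · congr 2
        ext c
        show iterateFrobenius K p e (iterateFrobenius K p (e * j) (φa c)) = iterateFrobenius K p (e * (j + 1)) (φa c)
        simp only [iterateFrobenius_def]
        rw [← pow_mul, ← pow_add, Nat.mul_succ]
  obtain ⟨c, hc1, hc2, hc3⟩ := key n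
  have heq : c = b := by
    apply pullback.hom_ext
    · rw [hc3, hφb]
      congr 2
      ext c
      show iterateFrobenius K p (e * n) (φa c) = φb c
      rw [show φb c = φa c ^ (Nat.card k ^ n) from hn c, iterateFrobenius_def, hq, ← pow_mul]
    · rw [hc1, hb]
  rwa [heq, hby] at hc2

include hFb hFapp in
/-- A closed subset descends exactly when it is Frobenius stable. -/
theorem descends_iff (hF1 : F ≫ pullback.fst f (Spec.map (CommRingCat.ofHom (algebraMap k K))) = pullback.fst f (Spec.map (CommRingCat.ofHom (algebraMap k K))) ≫ FX)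
    (hF2 : F ≫ pullback.snd f (Spec.map (CommRingCat.ofHom (algebraMap k K))) = pullback.snd f (Spec.map (CommRingCat.ofHom (algebraMap k K)))) (W : Set ↥(pullback f (Spec.map (CommRingCat.ofHom (algebraMap k K))))) (hW : IsClosed W) :
    (∃ Y : Set X, IsClosed Y ∧ (pullback.fst f (Spec.map (CommRingCat.ofHom (algebraMap k K)))).base ⁻¹' Y = W) ↔ F.base '' W ⊆ W := by
  constructor
  · rintro ⟨Y, -, rfl⟩ _ ⟨w, hw, rfl⟩
    show pullback.fst f (Spec.map (CommRingCat.ofHom (algebraMap k K))) (F w) ∈ Y
    rw [← Scheme.Hom.comp_apply, hF1, Scheme.Hom.comp_apply, show FX (pullback.fst f (Spec.map (CommRingCat.ofHom (algebraMap k K))) w) = pullback.fst f (Spec.map (CommRingCat.ofHom (algebraMap k K))) w by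
      rw [hFb]; rfl]
    exact hw
  · intro hFW
    haveI := isIntegralHom_fst f K
    let π := pullback.fst f (Spec.map (CommRingCat.ofHom (algebraMap k K)))
    refine ⟨π '' W, π.isClosedMap _ hW, Set.Subset.antisymm ?_ (Set.subset_preimage_image _ _)⟩
    by_contra hne
    obtain ⟨v, hv, hvW⟩ := Set.not_subset.1 hne
    haveI : JacobsonSpace ↥(pullback f (Spec.map (CommRingCat.ofHom (algebraMap k K)))) := LocallyOfFiniteType.jacobsonSpace (pullback.snd f (Spec.map (CommRingCat.ofHom (algebraMap k K))))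
    obtain ⟨y, ⟨hyY, hyW⟩, hy⟩ := nonempty_inter_closedPoints
      (Z := π ⁻¹' (π '' W) ∩ Wᶜ) ⟨v, hv, hvW⟩
      (((π.isClosedMap _ hW).preimage π.continuous).isLocallyClosed.inter hW.isOpen_compl.isLocallyClosed)
    obtain ⟨w, hw, hwy⟩ := hyY
    have hz : IsClosed ({π y} : Set X) := by
      have := π.isClosedMap _ hy
      rwa [Set.image_singleton] at this
    exact hyW (exists_frob_pow f K FX hFb hle hFapp F hF1 hF2 w y
      (isClosed_singleton_of_fst f K w (by rw [show π w = π y from hwy]; exact hz)) hy hwy W hFW hw)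

end Groth.Agent.ZetaFix
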