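import Groth.Agent.WeilLib.FrobPow
import Groth.Agent.WeilLib.Count
import Groth.Agent.WeilLib.Iterate
import Groth.Prelude.Def_FinFr
import Mathlib

/-!
# Galois orbits on the points of a base change to an algebraic closure
-/

set_option autoImplicit false
set_option linter.style.haveILetI false
set_option backward.isDefEq.respectTransparency false

universe u

open CategoryTheory CategoryTheory.Limits AlgebraicGeometry FrobSch

noncomputable section

namespace Groth.Agent.ZetaFix

variable {k : Type u} [Field k] {X : Scheme.{u}} (f : X ⟶ Spec (CommRingCat.of k))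
variable (K : Type u) [Field K] [Algebra k K]

local notation "α" => Spec.map (CommRingCat.ofHom (algebraMap k K))

/-- Points over one point are translates of each other by the Galois group. -/
theorem exists_orbit [Normal k K] (τ : (K ≃ₐ[k] K) → (pullback f α ⟶ pullback f α))
    (hτ1 : ∀ σ, τ σ ≫ pullback.fst f α = pullback.fst f α)
    (hτ2 : ∀ σ, τ σ ≫ pullback.snd f α = pullback.snd f α ≫ Spec.map (CommRingCat.ofHom (σ : K →+* K)))
    (x y : ↥(pullback f α)) (h : pullback.fst f α x = pullback.fst f α y) : ∃ σ, τ σ x = y := by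
  obtain ⟨w, hwx, hwy⟩ := Scheme.Pullback.exists_preimage_pullback (f := pullback.fst f α) (g := pullback.fst f α) x y h
  let P := pullback (pullback.fst f α) (pullback.fst f α)
  let L := P.residueField w
  let a : Spec L ⟶ pullback f α := P.fromSpecResidueField w ≫ pullback.fst _ _
  let b : Spec L ⟶ pullback f α := P.fromSpecResidueField w ≫ pullback.snd _ _
  have hab : a ≫ pullback.fst f α = b ≫ pullback.fst f α := by
    simp only [a, b, Category.assoc, pullback.condition]
  let φa : K →+* L := (Spec.preimage (a ≫ pullback.snd f α)).hom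
  let φb : K →+* L := (Spec.preimage (b ≫ pullback.snd f α)).hom
  have hcomp : φb.comp (algebraMap k K) = φa.comp (algebraMap k K) := by
    refine congrArg CommRingCat.Hom.hom (Spec.map_injective (?_ :
      Spec.map (CommRingCat.ofHom (algebraMap k K) ≫ Spec.preimage (b ≫ pullback.snd f α)) =
        Spec.map (CommRingCat.ofHom (algebraMap k K) ≫ Spec.preimage (a ≫ pullback.snd f α))))
    rw [Spec.map_comp, Spec.map_comp, Spec.map_preimage, Spec.map_preimage]
    calc _ = b ≫ pullback.fst f α ≫ f := by rw [Category.assoc, ← pullback.condition (f := f) (g := α)]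
      _ = a ≫ pullback.fst f α ≫ f := by rw [← Category.assoc, ← hab, Category.assoc]
      _ = _ := by rw [pullback.condition (f := f) (g := α)]; exact (Category.assoc a _ _).symm
  letI : Algebra K L := φa.toAlgebra
  letI : Algebra k L := (φa.comp (algebraMap k K)).toAlgebra
  haveI : IsScalarTower k K L := IsScalarTower.of_algebraMap_eq' rfl
  let ψ : K →ₐ[k] L := { φb with commutes' := fun r => RingHom.congr_fun hcomp r }
  obtain ⟨σ', hσ'⟩ : ∃ σ' : K ≃ₐ[k] K, ∀ c, φa (σ' c) = φb c :=
    ⟨ψ.restrictNormal' K, fun c => ψ.restrictNormal_commutes K c⟩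
  refine ⟨σ', ?_⟩
  have he : a ≫ τ σ' = b := by
    apply pullback.hom_ext
    · rw [Category.assoc, hτ1, hab]
    · rw [Category.assoc, hτ2, ← Category.assoc, ← Spec.map_preimage (a ≫ pullback.snd f α), ← Spec.map_comp,
        ← Spec.map_preimage (b ≫ pullback.snd f α)]
      congr 1
      ext c
      exact hσ' c
  have hxa : a (IsLocalRing.closedPoint L) = x := by
    refine (Scheme.Hom.comp_apply _ _ _).trans ?_
    erw [Scheme.fromSpecResidueField_apply]
    exact hwx
  have hyb : b (IsLocalRing.closedPoint L) = y := by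
    refine (Scheme.Hom.comp_apply _ _ _).trans ?_
    erw [Scheme.fromSpecResidueField_apply]
    exact hwy
  rw [← hxa, ← hyb, ← he]
  rfl

theorem orbit_iff [Normal k K] (τ : (K ≃ₐ[k] K) → (pullback f α ⟶ pullback f α))
    (hτ1 : ∀ σ, τ σ ≫ pullback.fst f α = pullback.fst f α)
    (hτ2 : ∀ σ, τ σ ≫ pullback.snd f α = pullback.snd f α ≫ Spec.map (CommRingCat.ofHom (σ : K →+* K)))
    (x y : ↥(pullback f α)) : pullback.fst f α x = pullback.fst f α y ↔ ∃ σ, τ σ x = y := by
  refine ⟨exists_orbit f K τ hτ1 hτ2 x y, ?_⟩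
  rintro ⟨σ, rfl⟩
  rw [← Scheme.Hom.comp_apply, hτ1]

variable [IsAlgClosed K] [Algebra.IsAlgebraic k K] [LocallyOfFiniteType f]

theorem isIntegralHom_fst : IsIntegralHom (pullback.fst f α) := by
  haveI : IsIntegralHom α := by
    rw [IsIntegralHom.SpecMap_iff]
    exact algebraMap_isIntegral_iff.2 inferInstance
  infer_instance

/-- The points over a closed point are closed. -/
theorem isClosed_singleton_of_fst (w : ↥(pullback f α)) (hw : IsClosed ({pullback.fst f α w} : Set X)) :
    IsClosed ({w} : Set ↥(pullback f α)) := by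
  haveI := isIntegralHom_fst f K
  haveI : LocallyOfFiniteType (pullback.snd f α) := inferInstance
  haveI : JacobsonSpace ↥(pullback f α) := LocallyOfFiniteType.jacobsonSpace (pullback.snd f α)
  obtain ⟨w', hw', hcl⟩ := nonempty_inter_closedPoints (show (pullback.fst f α ⁻¹' {pullback.fst f α w}).Nonempty
    from ⟨w, rfl⟩) ((hw.preimage (pullback.fst f α).continuous).isLocallyClosed)
  haveI : IsAlgClosure k K := ⟨inferInstance, inferInstance⟩
  haveI : Normal k K := IsAlgClosure.normal k K
  let τ : (K ≃ₐ[k] K) → (pullback f α ⟶ pullback f α) := fun σ =>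
    pullback.lift (pullback.fst f α) (pullback.snd f α ≫ Spec.map (CommRingCat.ofHom (σ : K →+* K))) (by
      rw [Category.assoc, ← Spec.map_comp, pullback.condition]
      congr 2
      ext c
      exact (σ.commutes c).symm)
  obtain ⟨σ, rfl⟩ := exists_orbit f K τ (fun σ => pullback.lift_fst _ _ _) (fun σ => pullback.lift_snd _ _ _) w' w hw'
  haveI : IsIntegralHom (τ σ ≫ pullback.fst f α) := by rw [pullback.lift_fst]; infer_instance
  haveI : IsIntegralHom (τ σ) := IsIntegralHom.of_comp _ (pullback.fst f α)
  rw [← Set.image_singleton]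
  exact (τ σ).isClosedMap _ hcl

theorem exists_section (w : ↥(pullback f α)) (hw : IsClosed ({w} : Set ↥(pullback f α))) :
    ∃ a : Spec (CommRingCat.of K) ⟶ pullback f α, a ≫ pullback.snd f α = 𝟙 _ ∧ ∀ t, a t = w :=
  ⟨pointOfClosedPoint (pullback.snd f α) w hw, pointOfClosedPoint_comp _ w hw, pointOfClosedPoint_apply _ w hw⟩

theorem section_ext {a b : Spec (CommRingCat.of K) ⟶ pullback f α} (ha : a ≫ pullback.snd f α = 𝟙 _)
    (hb : b ≫ pullback.snd f α = 𝟙 _) (h : a (IsLocalRing.closedPoint K) = b (IsLocalRing.closedPoint K)) : a = b :=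
  congrArg Subtype.val ((pointEquivClosedPoint (pullback.snd f α)).injective (a₁ := ⟨a, ha⟩) (a₂ := ⟨b, hb⟩)
    (Subtype.ext h))

/-- The fibre over a closed point is counted by the embeddings of its residue field. -/
theorem nonempty_fibre_equiv (z : X) (hz : IsClosed ({z} : Set X)) :
    letI := (WeilLib.kStr f z).toAlgebra
    Nonempty ((X.residueField z →ₐ[k] K) ≃ {w : ↥(pullback f α) // pullback.fst f α w = z}) := by
  letI := (WeilLib.kStr f z).toAlgebra
  let sec : (X.residueField z →ₐ[k] K) → (Spec (CommRingCat.of K) ⟶ pullback f α) := fun φ =>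
    pullback.lift (Spec.map (CommRingCat.ofHom φ.toRingHom) ≫ X.fromSpecResidueField z) (𝟙 _) (by
      rw [Category.assoc, WeilLib.fromSpecResidueField_comp, ← Spec.map_comp, Category.id_comp]
      congr 1
      ext c
      exact φ.commutes c)
  have hfst : ∀ φ, pullback.fst f α (sec φ (IsLocalRing.closedPoint K)) = z := fun φ => by
    rw [← Scheme.Hom.comp_apply, pullback.lift_fst, Scheme.Hom.comp_apply]
    erw [Scheme.fromSpecResidueField_apply]
  refine ⟨Equiv.ofBijective (fun φ => ⟨sec φ (IsLocalRing.closedPoint K), hfst φ⟩) ⟨fun φ φ' h => ?_, ?_⟩⟩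
  · have := section_ext f K (pullback.lift_snd _ _ _) (pullback.lift_snd _ _ _) (congrArg Subtype.val h)
    have h1 := congrArg (fun t => t ≫ pullback.fst f α) this
    simp only [sec, pullback.lift_fst] at h1
    exact AlgHom.coe_ringHom_injective (congrArg CommRingCat.Hom.hom (Spec.map_injective ((cancel_mono _).1 h1)))
  · rintro ⟨w, rfl⟩
    obtain ⟨a, ha, haw⟩ := exists_section f K w (isClosed_singleton_of_fst f K w hz)
    obtain ⟨⟨z', φ⟩, hφ⟩ := (Scheme.SpecToEquivOfField K X).symm.surjective (a ≫ pullback.fst f α)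
    have hz' : z' = pullback.fst f α w := by
      rw [← haw (IsLocalRing.closedPoint K), ← Scheme.Hom.comp_apply, ← hφ]
      exact (Scheme.fromSpecResidueField_apply _ _).symm
    subst hz'
    have hover : φ.hom.comp (WeilLib.kStr f _) = algebraMap k K := by
      refine congrArg CommRingCat.Hom.hom (Spec.map_injective (?_ :
        Spec.map (CommRingCat.ofHom (WeilLib.kStr f _) ≫ φ) = α))
      rw [Spec.map_comp, ← WeilLib.fromSpecResidueField_comp, ← Category.assoc]
      change ((Scheme.SpecToEquivOfField K X).symm ⟨_, φ⟩) ≫ f = _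
      rw [hφ, Category.assoc, pullback.condition, reassoc_of% ha]
    refine ⟨{ φ.hom with commutes' := RingHom.congr_fun hover }, Subtype.ext ?_⟩
    have hsec : sec { φ.hom with commutes' := RingHom.congr_fun hover } = a := by
      apply pullback.hom_ext
      · rw [pullback.lift_fst, ← hφ]
        rfl
      · rw [pullback.lift_snd, ha]
    show sec _ (IsLocalRing.closedPoint K) = w
    rw [hsec]
    exact haw _

theorem card_fibre [PerfectField k] (z : X) (hz : IsClosed ({z} : Set X)) :
    Finite {w : ↥(pullback f α) // pullback.fst f α w = z} ∧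
      Nat.card {w : ↥(pullback f α) // pullback.fst f α w = z} = EGA4loc.residueDegree f z := by
  letI := (WeilLib.kStr f z).toAlgebra
  haveI : Module.Finite k (X.residueField z) := (WeilLib.finite_residueField_iff f z).2 hz
  obtain ⟨e⟩ := nonempty_fibre_equiv f K z hz
  refine ⟨Finite.of_equiv _ e, ?_⟩
  rw [← Nat.card_congr e, Nat.card_eq_fintype_card, AlgHom.card, WeilLib.residueDegree_eq_finrank]

/-- Effective zero-cycles are the Galois invariant effective zero-cycles upstairs. -/
theorem bijOn_cycles [PerfectField k] [Normal k K] [QuasiCompact f]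
    (τ : (K ≃ₐ[k] K) → (pullback f α ⟶ pullback f α))
    (hτ1 : ∀ σ, τ σ ≫ pullback.fst f α = pullback.fst f α)
    (hτ2 : ∀ σ, τ σ ≫ pullback.snd f α = pullback.snd f α ≫ Spec.map (CommRingCat.ofHom (σ : K →+* K))) (n : ℕ) :
    Set.BijOn (fun c : X → ℕ => c ∘ (pullback.fst f α).base)
      {c : X → ℕ | (Function.support c).Finite ∧ (∀ x, c x ≠ 0 → IsClosed ({x} : Set X)) ∧
        ∑ᶠ x, c x * EGA4loc.residueDegree f x = n}
      {d : ↥(pullback f α) → ℕ |
        (Function.support d).Finite ∧ (∀ y, d y ≠ 0 → IsClosed ({y} : Set _)) ∧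
        ∑ᶠ y, d y = n ∧ ∀ σ y, d ((τ σ).base y) = d y} := by
  classical
  haveI := isIntegralHom_fst f K
  let π := pullback.fst f α
  have hsurj : Function.Surjective π := fun x => by
    obtain ⟨z, hz, -⟩ := Scheme.Pullback.exists_preimage_pullback (f := f) (g := α) x
      (IsLocalRing.closedPoint K) (@Subsingleton.elim ↥(Spec (CommRingCat.of k)) _ _ _)
    exact ⟨z, hz⟩
  have hsum : ∀ c : X → ℕ, (Function.support c).Finite → (∀ x, c x ≠ 0 → IsClosed ({x} : Set X)) →
      (Function.support (c ∘ π)).Finite ∧ ∑ᶠ y, c (π y) = ∑ᶠ x, c x * EGA4loc.residueDegree f x := by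
    intro c hc hcl
    have hfin : (Function.support (c ∘ π)).Finite := by
      refine (hc.biUnion (t := fun x => π ⁻¹' {x}) fun x hx => ?_).subset fun y hy => ?_
      · haveI := (card_fibre f K x (hcl x hx)).1
        exact Set.finite_coe_iff.1 ‹_›
      · exact Set.mem_biUnion (x := π y) hy rfl
    refine ⟨hfin, ?_⟩
    rw [show (fun y => c (π y)) = c ∘ π from rfl]
    rw [finsum_eq_sum (c ∘ π) hfin, finsum_eq_sum_of_support_subset (s := hc.toFinset) _ (by
      intro x hx
      simp only [Set.Finite.coe_toFinset, Function.mem_support] at hx ⊢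
      exact left_ne_zero_of_mul hx)]
    rw [← Finset.sum_fiberwise_of_maps_to (g := π) (t := hc.toFinset) (fun y hy => by simpa using hy)]
    refine Finset.sum_congr rfl fun x hx => ?_
    have hx' : c x ≠ 0 := by simpa using hx
    refine (Finset.sum_congr rfl (g := fun _ => c x) fun y hy => congrArg c (Finset.mem_filter.1 hy).2).trans ?_
    rw [Finset.sum_const, smul_eq_mul, mul_comm]
    congr 1
    rw [← (card_fibre f K x (hcl x hx')).2, ← Fintype.card_coe, ← Nat.card_eq_fintype_card]
    exact Nat.card_congr (Equiv.subtypeEquivRight fun y => by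
      simp only [Finset.mem_filter, Set.Finite.mem_toFinset, Function.mem_support, Function.comp_apply]
      refine ⟨fun h => h.2, fun hy => ⟨?_, hy⟩⟩
      rw [show π y = x from hy]
      exact hx')
  refine ⟨?_, ?_, ?_⟩
  · rintro c ⟨hc, hcl, hn⟩
    refine ⟨(hsum c hc hcl).1, fun y hy => isClosed_singleton_of_fst f K y (hcl _ hy),
      (hsum c hc hcl).2.trans hn, fun σ y => ?_⟩
    show c (π (τ σ y)) = c (π y)
    rw [← Scheme.Hom.comp_apply, hτ1]
  · intro c _ c' _ h
    funext x
    obtain ⟨y, rfl⟩ := hsurj x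
    exact congrFun h y
  · rintro d ⟨hd, hdcl, hn, hinv⟩
    choose g hg using hsurj
    have hfac : ∀ y, d (g (π y)) = d y := fun y => by
      obtain ⟨σ, hσ⟩ := exists_orbit f K τ hτ1 hτ2 y (g (π y)) (hg _).symm
      rw [← hσ]
      exact hinv σ y
    have hcl : ∀ x, d (g x) ≠ 0 → IsClosed ({x} : Set X) := fun x hx => by
      have := π.isClosedMap _ (hdcl _ hx)
      rwa [Set.image_singleton, hg] at this
    have hc : (Function.support fun x => d (g x)).Finite :=
      (hd.image π).subset fun x hx => ⟨g x, hx, hg x⟩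
    refine ⟨fun x => d (g x), ⟨hc, hcl, ?_⟩, funext hfac⟩
    rw [← (hsum _ hc hcl).2, ← hn]
    exact finsum_congr hfac

end Groth.Agent.ZetaFix
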